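import Cfsg.Agent.Lib.Spor.TC.Signed

/-!
A conjugate of a lift of a transvection: tables found by a computer search.
-/

set_option autoImplicit false
set_option maxRecDepth 100000

namespace CfsgLib.Spor.HSType.Cert.K0Norm

open CfsgLib.Spor.TC

def edgeTbl : Tbl :=
  (.bin (.bin (.bin (.tip 0x20001d20001c0000120001b0001c20001a0001b2000190001a20001800019200015000182000160001720000f000166000150001050000100015200014000002000130001420001200013200011000122000100001120000f000102000000000f20000d0000e70000c0000d20000b0000c60000a0000b5000090000a3000080000960000700008500006000075000050000620000400005400003000047000020000330000100002400000000014) (.tip 0xd60000e000008)) (.bin (.tip 0x3d0002680003b0001f80001e000118000200001280003d0001350003b0003d200018000125000160000f6000160003c40003b0001150003a0003b20000f0003a40000e000392000380000e800039000376000380003920000d0003860002e0000b30002e000328000370000b200036000372000350003620003400035200033000342000320003320000b00032200028000305000300003120002f000302000090002f2000090002740002e0002a2) .none)) (.bin (.bin (.tip 0x2d0002e60002c0002d2000250002c60002a0000760002a0002b20002a0000940002a000077000270002a400006000084000290001f20002800029600027000282000060002760001f00026200007000252000070002480002400025200023000242000050001f700022000058000040002320002100004800021000232000220001f70002100022400003000216000200001d50001e0002020001f0000340001e0001f4000030001e40001d000185)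 .none) (.bin (.tip 0x390000f800037000168000170000b80003e0002e800044000318000440004320002e000444000430004240002b0004340002b0004250002800042200041000288000410004220001a000416000310003e5000400003180003c00030800028000164000280003f8000400003e50003c0004020003f0001640003c0003f4000170003e20001a0002870001a0000f5000290001a80001f0001b8000260001c8000290000f5000260001350003a000298) .none)))

def nodeTbl : Tbl :=
  (.bin (.bin (.tip 0x1e40000340000220001b20001a20001920001820001520001620000f60000120001320001220001120001020000f20000020000d70000c20000b60000a5000093000086000075000065000052000044000037000023000014000004000000) (.tip 0x2e40002b40004120001a60003c2)) (.bin (.tip 0x3c40001720003b20001640003a20000f40003820000d60003620003520003420003320003220000b20003020002f20000920002d60002c20002560002a20002740002860002720000660001f20002420002320002120002140000360001e2) .none))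

def rowTbl : Tbl :=
  .none

/-- The relators. -/
def rels : List (List ℕ) := [
  [0, 0, 0, 0],
  [2, 2, 2, 2, 2, 2, 2],
  [4, 4, 4],
  [4, 2, 5, 3, 3],
  [4, 0, 5, 1],
  [0, 2, 0, 3, 1, 2, 1, 3],
  [0, 2, 2, 0, 3, 3, 1, 2, 2, 1, 3, 3],
  [2, 0, 3, 2, 2, 0, 3, 3, 2, 1, 3, 2, 2, 1, 3, 3],
  [2, 2, 2, 0, 3, 3, 3, 2, 2, 1, 3, 3, 2, 2, 1, 3, 3, 2, 1, 3, 2, 1, 3, 2, 1, 3, 1],
  [6, 4, 7, 4],
  [6, 0, 7, 0],
  [6, 2, 0, 3, 7, 2, 2, 1, 3, 3],
  [6, 6],
  [2, 6, 2, 6, 2, 6]]

/-- The generators of the subgroup. -/
def subs : List (List ℕ) := []

/-- The certificate. -/
noncomputable def cert : Cert :=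
  ⟨8, rels, subs, edgeTbl.get 44, nodeTbl.get 24, rowTbl.get 20⟩

/-- The word traced into the subgroup. -/
def target : List ℕ := [4, 4, 3, 7, 4, 2, 5, 5, 6, 3, 5, 6, 2, 7]

end CfsgLib.Spor.HSType.Cert.K0Norm
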