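import Cfsg.Agent.Lib.Spor.HSType.Cert.K0Norm.Data

/-!
Checks of a part of the derivation.
-/

set_option autoImplicit false

namespace CfsgLib.Spor.HSType.Cert.K0Norm

open CfsgLib.Spor.TC

def scodes0 : List ℕ := [
  0x1,
  0x1,
  0x1,
  0x1,
  0x1,
  0x1,
  0x1,
  0x1,
  0x1,
  0x1,
  0x1,
  0x1,
  0x1,
  0x1,
  0x1,
  0x1,
  0x1,
  0x1,
  0x1,
  0x1,
  0x1e000200002200024000260002800007000010000200002,
  0x1,
  0x1f0001d000020002c00003000010000400002,
  0x1,
  0x1,
  0x1,
  0x1,
  0x1,
  0x1,
  0x1,
  0x2c0003400036000380003a0003c00007000020000200002,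
  0x1,
  0x330002b000040004000003000020000400002,
  0x1,
  0x1,
  0x440004600003000040000300002,
  0x1,
  0x3f00006000440004a00003000040000400002,
  0x1,
  0x1,
  0x480004e0005000003000040000a00002,
  0x1,
  0x70004e00002000040000d00002,
  0x530005600004,
  0x9000550005000004,
  0x510005a00004,
  0x1,
  0x1,
  0x5d000570000a0000c0000e00004000050000400002,
  0x5f0006100004,
  0x1,
  0x1,
  0x1,
  0x1,
  0x5b0000c000680006a0006c00005000060000e00002,
  0xf0000d00001000070000300002,
  0x1,
  0xd000680007200003000070000a00002,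
  0x110000f0007300002000080000a00002,
  0x1,
  0x7300002000080000d00002,
  0x1,
  0x1,
  0x1,
  0x7a000640007c0007e0008000005000080000e00002,
  0x67000700001200002000090000a00002,
  0x1,
  0x1,
  0x1,
  0x8700085000840006a000030000a0000400002,
  0x1,
  0x1,
  0x1,
  0x1,
  0x1,
  0x1,
  0x8e0009000092000940009600098000070000c0000200002,
  0x8d00015000130007500081000050000c0000400002,
  0x8e0009b00004,
  0x1,
  0x1,
  0x9a000180001a000a0000a2000040000d0000e00002,
  0x1b000a0000020000e0000d00002,
  0xa1000a600004,
  0x1,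
  0x1,
  0x210001f000aa000ac00003000100000400002,
  0x1,
  0x3000002000100000d00002,
  0x23000210002d0003400003000110000400002,
  0x1,
  0x2500023000ad000b600003000120000400002,
  0xb3000410004b00004000130000300002,
  0x24000b90004900004,
  0x45000bc000ad00004,
  0x65000bd000b600004,
  0x6e000bd000ab00004,
  0xb7000c000004,
  0xaa000c200004,
  0x3e000010002900027000c300002000140000400002,
  0x3c000c70006500004,
  0x3a000c90006d00004,
  0xc5000cc00004,
  0x6c000cc00004,
  0x1,
  0x1,
  0xb0000d400003000170000300002,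
  0x1,
  0xd100031000b0000d800003000170000400002,
  0xd6000b2000cd000d000004000170000a00002,
  0xd5000db00004,
  0x8b000dc000d300004,
  0x89000df000d800004,
  0xd9000e200004,
  0x1,
  0x1,
  0xde0002f000cd000e6000020001b0000a00002,
  0xe7000ea00004,
  0xeb00069000720007800003000280000400002,
  0x1,
  0xed000f0000020002c0000300002,
  0x1,
  0xef0007700081000f4000020002f0000400002,
  0x890008b000ec000f1000f500005000310000400002,
  0xf4000f8000e400004,
  0x9d000f9000d100004,
  0x32000fc0009900004,
  0x30000fd000a300004,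
  0x1e000ff000a700004,
  0x1c0010200004]

set_option maxRecDepth 100000 in
theorem steps0 : cert.SStepsOK 0 130 :=
  Cert.SStepsOK.of_check _ (codes := scodes0) (by decide +kernel)

end CfsgLib.Spor.HSType.Cert.K0Norm
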